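import Groth.Agent.Lib.KoszulH13.KoszulLim
import Groth.Agent.Lib.ExtCech.Compare

/-!
# Derivations act on extended Čech cohomology
-/

set_option autoImplicit false
universe u

open CategoryTheory CategoryTheory.Limits CochainComplex Groth.Agent.ExtCechLib

noncomputable section

namespace Groth.Agent.CechDer27

variable {R : Type u} [CommRing R] (θ : Derivation ℤ R R)

/-- A family of Leibniz operators commuting with the differential. -/
structure Op (K : DRing.Cx R) where
  D : ∀ i, K.X i →+ K.X i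
  leib : ∀ i (a : R) (x : K.X i), D i (a • x) = θ a • x + a • D i x
  comm : ∀ i j (x : K.X i), D j (dd K i j x) = dd K i j (D i x)

variable {θ} {K : DRing.Cx R} (g : R)

theorem loc_cross (O : Op θ K) {i : ℤ} {x : (Lg g K).X i} {n m : ℕ} {y z : K.X i} (hy : g ^ n • x = ι g K i y)
    (hz : g ^ m • x = ι g K i z) :
    g ^ m • (ι g K i (O.D i y) - θ (g ^ n) • x) = g ^ n • (ι g K i (O.D i z) - θ (g ^ m) • x) := by
  have h0 : ι g K i (g ^ m • y - g ^ n • z) = 0 := by
    rw [map_sub, map_smul, map_smul, ← hy, ← hz, smul_smul, smul_smul, mul_comm, sub_self]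
  obtain ⟨k, hk⟩ := (ι_eq_zero_iff g K).1 h0
  have h1 := congrArg (fun t => ι g K i (O.D i t)) hk
  simp only [O.leib, map_add, map_smul, map_zero, h0, smul_zero, zero_add] at h1
  have h2 := (g_bijective g K i k).1 (a₁ := ι g K i (O.D i (g ^ m • y - g ^ n • z))) (a₂ := 0)
    (h1.trans (smul_zero (g ^ k)).symm)
  simp only [map_sub, O.leib, map_add, map_smul, ← hy, ← hz, sub_eq_zero] at h2
  simp only [smul_sub, smul_smul, sub_eq_sub_iff_add_eq_add] at h2 ⊢
  rw [mul_comm (θ (g ^ m)), mul_comm (θ (g ^ n)) (g ^ m), add_comm] at h2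
  exact h2.trans (add_comm _ _)

/-- The value of the localised operator. -/
def IsLoc (O : Op θ K) (i : ℤ) (x w : (Lg g K).X i) : Prop :=
  ∀ (n : ℕ) (y : K.X i), g ^ n • x = ι g K i y → g ^ n • w = ι g K i (O.D i y) - θ (g ^ n) • x

theorem isLoc_exists (O : Op θ K) (i : ℤ) (x : (Lg g K).X i) : ∃ w, IsLoc g O i x w := by
  obtain ⟨n, y, hy⟩ := exists_num g K x
  obtain ⟨w, hw⟩ := (g_bijective g K i n).2 (ι g K i (O.D i y) - θ (g ^ n) • x)
  refine ⟨w, fun m z hz => (g_bijective g K i n).1 ?_⟩
  show g ^ n • g ^ m • w = g ^ n • _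
  rw [smul_comm, show g ^ n • w = _ from hw]
  exact loc_cross g O hy hz

theorem isLoc_unique (O : Op θ K) {i : ℤ} {x w w' : (Lg g K).X i} (h : IsLoc g O i x w) (h' : IsLoc g O i x w') :
    w = w' := by
  obtain ⟨n, y, hy⟩ := exists_num g K x
  exact (g_bijective g K i n).1 ((h n y hy).trans (h' n y hy).symm)

theorem isLoc_of_num (O : Op θ K) {i : ℤ} {x w : (Lg g K).X i} {n : ℕ} {y : K.X i} (hy : g ^ n • x = ι g K i y)
    (hw : g ^ n • w = ι g K i (O.D i y) - θ (g ^ n) • x) : IsLoc g O i x w := by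
  obtain ⟨w', hw'⟩ := isLoc_exists g O i x
  have : w = w' := (g_bijective g K i n).1 (hw.trans (hw' n y hy).symm)
  exact this ▸ hw'

/-- The localised operator. -/
def locD (O : Op θ K) (i : ℤ) : (Lg g K).X i →+ (Lg g K).X i :=
  AddMonoidHom.mk' (fun x => (isLoc_exists g O i x).choose) fun x x' => by
    have hx := (isLoc_exists g O i x).choose_spec
    have hx' := (isLoc_exists g O i x').choose_spec
    obtain ⟨n, y, hy⟩ := exists_num g K x
    obtain ⟨m, z, hz⟩ := exists_num g K x'
    refine isLoc_unique g O (isLoc_exists g O i (x + x')).choose_spec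
      (isLoc_of_num g O (n := n + m) (y := g ^ m • y + g ^ n • z) ?_ ?_)
    · rw [smul_add, map_add, map_smul, map_smul, ← hy, ← hz, smul_smul, smul_smul, pow_add,
        mul_comm (g ^ n) (g ^ m)]
    · rw [smul_add, pow_add, mul_smul, mul_smul, smul_comm (g ^ n) (g ^ m) (isLoc_exists g O i x).choose,
        hx n y hy, hx' m z hz]
      simp only [map_add, O.leib, map_smul, ← hy, ← hz, Derivation.leibniz, smul_eq_mul, smul_sub, smul_add, add_smul,
        smul_smul]
      module

theorem locD_spec (O : Op θ K) (i : ℤ) (x : (Lg g K).X i) : IsLoc g O i x (locD g O i x) :=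
  (isLoc_exists g O i x).choose_spec

theorem locD_ι (O : Op θ K) (i : ℤ) (y : K.X i) : locD g O i (ι g K i y) = ι g K i (O.D i y) := by
  have h := locD_spec g O i (ι g K i y) 0 y (by rw [pow_zero, one_smul])
  rwa [pow_zero, one_smul, Derivation.map_one_eq_zero, zero_smul, sub_zero] at h

/-- Localisation of operators. -/
def Op.loc (O : Op θ K) : Op θ (Lg g K) where
  D := locD g O
  leib i a x := by
    obtain ⟨n, y, hy⟩ := exists_num g K x
    refine isLoc_unique g O (locD_spec g O i (a • x)) (isLoc_of_num g O (n := n) (y := a • y)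
      (by rw [smul_comm, hy, map_smul]) ?_)
    rw [smul_add, smul_comm (g ^ n) a, locD_spec g O i x n y hy]
    simp only [O.leib, map_add, map_smul, ← hy, smul_sub, smul_smul]
    module
  comm i j x := by
    obtain ⟨n, y, hy⟩ := exists_num g K x
    refine isLoc_unique g O (locD_spec g O j _) (isLoc_of_num g O (n := n) (y := dd K i j y)
      (by rw [← map_smul, hy, ι_dd]) ?_)
    rw [← map_smul, locD_spec g O i x n y hy, map_sub, map_smul, O.comm, ι_dd]

/-- The operator on the cone of the localisation map. -/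
def Op.cone (O : Op θ K) : Op θ (mappingCone (φg g K)) where
  D m := AddMonoidHom.mk' (fun z => cMk (φg g K) m (m + 1) rfl (O.D (m + 1) (cA (φg g K) m (m + 1) rfl z))
      (locD g O m (cB (φg g K) m z))) fun x y => by
    refine cone_ext (φg g K) (show m + 1 = m + 1 from rfl) ?_ ?_
    · simp only [map_add, cA_cMk]
    · simp only [map_add, cB_cMk]
  leib m a z := by
    refine cone_ext (φg g K) (show m + 1 = m + 1 from rfl) ?_ ?_
    · simp [cA_cMk, O.leib]
    · simp [cB_cMk]
      exact (O.loc g).leib m a _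
  comm i j z := by
    by_cases hij : i + 1 = j
    · refine cone_ext (φg g K) (show j + 1 = j + 1 from rfl) ?_ ?_
      · subst hij
        simp [cA_cMk, cA_d _ i (i + 1) (i + 1 + 1) rfl rfl, O.comm]
      · subst hij
        simp [cB_cMk, cB_d _ i (i + 1) rfl]
        erw [cA_cMk]
        exact congrArg₂ (· + ·) (locD_ι g O (i + 1) _) ((O.loc g).comm i (i + 1) _)
    · have : (mappingCone (φg g K)).d i j = 0 := (mappingCone (φg g K)).shape i j hij
      simp [dd, this]
      exact cone_ext (φg g K) (show j + 1 = j + 1 from rfl) (by simp [cA_cMk]) (by simp [cB_cMk])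

/-- The operator on the cocone. -/
def Op.cocone (O : Op θ K) : Op θ (mappingCocone (φg g K)) where
  D q := (O.cone g).D (q + -1)
  leib q := (O.cone g).leib (q + -1)
  comm i j x := by
    show (O.cone g).D (j + -1) (dd (mappingCocone (φg g K)) i j x) = dd (mappingCocone (φg g K)) i j ((O.cone g).D (i + -1) x)
    have e : ∀ x : (mappingCone (φg g K)).X (i + -1), dd (mappingCocone (φg g K)) i j x =
        -dd (mappingCone (φg g K)) (i + -1) (j + -1) x := fun x => by
      simp [dd, mappingCocone, Int.negOnePow_neg, Int.negOnePow_one]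
      rfl
    erw [e, e, map_neg, (O.cone g).comm]

variable (θ) in
/-- The operator on the complex concentrated in degree zero. -/
def singleOp {M : ModuleCat.{u} R} (D₀ : M →+ M) (h₀ : ∀ (a : R) (m : M), D₀ (a • m) = θ a • m + a • D₀ m) :
    Op θ ((HomologicalComplex.single (ModuleCat.{u} R) (ComplexShape.up ℤ) 0).obj M) where
  D i := if h : i = 0 then
      ((HomologicalComplex.singleObjXIsoOfEq (ComplexShape.up ℤ) 0 M i h).inv.hom.toAddMonoidHom.comp
        (D₀.comp (HomologicalComplex.singleObjXIsoOfEq (ComplexShape.up ℤ) 0 M i h).hom.hom.toAddMonoidHom))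
    else 0
  leib i a x := by
    by_cases h : i = 0
    · simp [h₀, h]
    · have := ModuleCat.subsingleton_of_isZero
        (HomologicalComplex.isZero_single_obj_X (ComplexShape.up ℤ) 0 M i h)
      exact Subsingleton.elim _ _
  comm i j x := by simp [dd]

/-- The operator on the extended Čech complex. -/
def cechOp {M : ModuleCat.{u} R} (D₀ : M →+ M) (h₀ : ∀ (a : R) (m : M), D₀ (a • m) = θ a • m + a • D₀ m) :
    ∀ fs : List R, Op θ (C M fs)
  | [] => singleOp θ D₀ h₀
  | g :: fs => (cechOp D₀ h₀ fs).cocone g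

theorem exists_homology_op (O : Op θ K) (q : ℤ) :
    ∃ D : K.homology q →+ K.homology q, ∀ (a : R) (ξ : K.homology q), D (a • ξ) = θ a • ξ + a • D ξ := by
  have hCy : ∀ x ∈ Cy K q, O.D q x ∈ Cy K q := fun x hx => by
    show dd K q (q + 1) (O.D q x) = 0
    rw [← O.comm, show dd K q (q + 1) x = 0 from hx, map_zero]
  let D₁ : Cy K q →+ Cy K q := AddMonoidHom.mk' (fun x => ⟨O.D q x.1, hCy x.1 x.2⟩)
    fun x y => Subtype.ext (map_add (O.D q) x.1 y.1)
  have hBd : ∀ x : Cy K q, KoszulH13.hClass K q x = 0 → KoszulH13.hClass K q (D₁ x) = 0 := fun x hx => by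
    rw [KoszulH13.hClass_eq_zero_iff] at hx ⊢
    obtain ⟨y, hy⟩ := hx
    exact ⟨O.D (q - 1) y, by show _ = O.D q x.1; rw [← hy, O.comm]⟩
  choose s hs using KoszulH13.hClass_surjective K q
  have key : ∀ x, KoszulH13.hClass K q (D₁ (s (KoszulH13.hClass K q x))) = KoszulH13.hClass K q (D₁ x) := fun x => by
    rw [← sub_eq_zero, ← map_sub, ← map_sub]
    exact hBd _ (by rw [map_sub, hs, sub_self])
  refine ⟨AddMonoidHom.mk' (fun ξ => KoszulH13.hClass K q (D₁ (s ξ))) fun ξ η => ?_, fun a ξ => ?_⟩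
  · conv_lhs => rw [← hs ξ, ← hs η, ← map_add, key, map_add, map_add]
  · show KoszulH13.hClass K q (D₁ (s (a • ξ))) = θ a • ξ + a • KoszulH13.hClass K q (D₁ (s ξ))
    conv_lhs => rw [← hs ξ, ← map_smul, key]
    rw [show D₁ (a • s ξ) = θ a • s ξ + a • D₁ (s ξ) from Subtype.ext (O.leib q a (s ξ).1), map_add, map_smul,
      map_smul, hs]

theorem exists_derivation_operator [IsNoetherianRing R] (I : Ideal R) (i : ℕ) :
    ∃ D : LocCoh.H I i R →+ LocCoh.H I i R, ∀ (a : R) (ξ : LocCoh.H I i R), D (a • ξ) = θ a • ξ + a • D ξ := by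
  obtain ⟨S, hS⟩ : I.FG := IsNoetherian.noetherian I
  have hI : Ideal.span {x : R | x ∈ S.toList} = I := by rw [← hS]; congr 1; ext; simp
  obtain ⟨e⟩ := nonempty_extCechH_equiv (R := R) S.toList i R
  obtain ⟨D, hD⟩ := exists_homology_op (cechOp (θ := θ) (M := ModuleCat.of R R) θ.toLinearMap.toAddMonoidHom
    (fun a m => by simp [smul_eq_mul, Derivation.leibniz, add_comm, mul_comm]) S.toList) (i : ℤ)
  subst hI
  exact ⟨e.toLinearMap.toAddMonoidHom.comp (D.comp e.symm.toLinearMap.toAddMonoidHom), fun a ξ => by simp [hD]⟩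

end Groth.Agent.CechDer27
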